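import Groth.Agent.Lib.ParaPS27.Glue

/-!
# The characteristic polynomial over the punctured spectrum
-/

set_option autoImplicit false
set_option linter.style.haveILetI false

universe u

open TensorProduct IsLocalRing Polynomial

namespace Groth.Agent.ParaPS27

open Groth.Agent.CIPic27

variable {A : Type u} [CommRing A] {Q : Type u} [AddCommGroup Q] [Module A Q]

theorem charpoly_tower (R₁ R₂ : Type u) [CommRing R₁] [Algebra A R₁] [CommRing R₂] [Algebra A R₂] [Algebra R₁ R₂]
    [IsScalarTower A R₁ R₂] (T : Module.End A Q) [Module.Finite A Q] [Module.Free R₁ (R₁ ⊗[A] Q)]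
    [Module.Free R₂ (R₂ ⊗[A] Q)] :
    (T.baseChange R₂).charpoly = (T.baseChange R₁).charpoly.map (algebraMap R₁ R₂) := by
  rw [← LinearMap.charpoly_baseChange,
    ← (AlgebraTensorModule.cancelBaseChange A R₁ R₂ R₂ Q).charpoly_conj]
  congr 1
  ext x
  simp [LinearEquiv.conj_apply, LinearMap.comp_apply]

variable [IsNoetherianRing A] [IsLocalRing A] {r : ℕ} {a : Fin r → A}

theorem exists_nontrivial (hA : Good A A) (ha : maximalIdeal A ≤ (Ideal.span (Set.range a)).radical) :
    ∃ i, Nontrivial (Localization.Away (a i)) := by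
  by_contra! h
  exact one_ne_zero (eq_zero_of_forall hA ha (c := (1 : A)) fun i => Subsingleton.elim _ _)

theorem exists_poly [Module.Finite A Q] (hA : Good A A) (ha : maximalIdeal A ≤ (Ideal.span (Set.range a)).radical)
    (T : Module.End A Q) (hfree : ∀ i, Module.Free (Localization.Away (a i)) (Localization.Away (a i) ⊗[A] Q)) :
    ∃ f : A[X], f.Monic ∧ (∀ (q : Q) i, ∃ n : ℕ, a i ^ n • aeval T f q = 0) ∧
      ∀ i, Nontrivial (Localization.Away (a i)) →
        Module.finrank (Localization.Away (a i)) (Localization.Away (a i) ⊗[A] Q) = f.natDegree := by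
  classical
  let F := fun i => (T.baseChange (Localization.Away (a i))).charpoly
  have hcomp : ∀ i j k, IsLocalization.Away.awayToAwayRight (a i) (a j) ((F i).coeff k) =
      (IsLocalization.Away.awayToAwayLeft (a j) (a i) ((F j).coeff k) : Localization.Away (a i * a j)) := by
    intro i j k
    have key : ∀ (l : Fin r) (φ : Localization.Away (a l) →+* Localization.Away (a i * a j)),
        φ.comp (algebraMap A _) = algebraMap A _ →
          ∃ _ : Module.Free (Localization.Away (a i * a j)) (Localization.Away (a i * a j) ⊗[A] Q),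
            (T.baseChange (Localization.Away (a i * a j))).charpoly = (F l).map φ := by
      intro l φ hφ
      letI := φ.toAlgebra
      haveI : IsScalarTower A (Localization.Away (a l)) (Localization.Away (a i * a j)) :=
        .of_algebraMap_eq' hφ.symm
      haveI := hfree l
      have hf : Module.Free (Localization.Away (a i * a j)) (Localization.Away (a i * a j) ⊗[A] Q) :=
        Module.Free.of_equiv (AlgebraTensorModule.cancelBaseChange A (Localization.Away (a l))
          (Localization.Away (a i * a j)) (Localization.Away (a i * a j)) Q)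
      exact ⟨hf, charpoly_tower _ _ T⟩
    obtain ⟨_, h1⟩ := key i (IsLocalization.Away.awayToAwayRight (a i) (a j)) (RingHom.ext (IsLocalization.Away.awayToAwayRight_eq (a i) (a j)))
    obtain ⟨_, h2⟩ := key j (IsLocalization.Away.awayToAwayLeft (a j) (a i))
      (RingHom.ext (IsLocalization.Away.awayToAwayLeft_eq (a j) (a i)))
    have h := congrArg (fun p => Polynomial.coeff p k) (h1.symm.trans h2)
    simpa only [coeff_map] using h
  choose c hc using fun k => exists_glue hA ha (fun i => (F i).coeff k) fun i j => hcomp i j k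
  obtain ⟨i₀, hi₀⟩ := exists_nontrivial hA ha
  let D := (Finset.univ : Finset (Fin r)).sup fun i => (F i).natDegree
  have hD : ∀ i, (F i).natDegree ≤ D := fun i =>
    Finset.le_sup (f := fun i => (F i).natDegree) (Finset.mem_univ i)
  have hsub : ∀ i, ¬ Nontrivial (Localization.Away (a i)) → F i = 0 := fun i h => by
    haveI := not_nontrivial_iff_subsingleton.1 h
    exact Subsingleton.elim _ _
  obtain ⟨i₁, hi₁, hD'⟩ : ∃ i, Nontrivial (Localization.Away (a i)) ∧ (F i).natDegree = D := by
    obtain ⟨i, -, hi⟩ := Finset.exists_mem_eq_sup Finset.univ ⟨i₀, Finset.mem_univ i₀⟩ fun i => (F i).natDegree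
    by_cases h : Nontrivial (Localization.Away (a i))
    · exact ⟨i, h, hi.symm⟩
    · refine ⟨i₀, hi₀, le_antisymm (hD i₀) ?_⟩
      rw [show D = (F i).natDegree from hi, hsub i h, natDegree_zero]
      exact Nat.zero_le _
  have hcD : c D = 1 := by
    have hidem : c D * c D - c D = 0 := eq_zero_of_forall hA ha fun i => by
      rw [map_sub, map_mul, hc]
      by_cases h : Nontrivial (Localization.Away (a i))
      · rcases (hD i).lt_or_eq with hlt | heq
        · rw [coeff_eq_zero_of_natDegree_lt hlt, mul_zero, sub_zero]
        · rw [← heq, ← leadingCoeff, (LinearMap.charpoly_monic _).leadingCoeff, mul_one, sub_self]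
      · haveI := not_nontrivial_iff_subsingleton.1 h
        exact Subsingleton.elim _ _
    have h1 : algebraMap A (Localization.Away (a i₁)) (c D) = 1 := by
      rw [hc, ← hD']
      exact (LinearMap.charpoly_monic _).leadingCoeff
    rcases IsLocalRing.isUnit_or_isUnit_one_sub_self (c D) with h | h
    · exact h.mul_left_cancel ((sub_eq_zero.1 hidem).trans (mul_one _).symm)
    · exfalso
      have h0 : (1 - c D) * c D = 0 := by linear_combination -hidem
      rw [h.mul_right_eq_zero] at h0
      rw [h0, map_zero] at h1
      exact zero_ne_one h1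
  let f : A[X] := ∑ k ∈ Finset.range (D + 1), C (c k) * X ^ k
  have hf : ∀ k, k ≤ D → f.coeff k = c k := fun k hk => by
    simp [f, coeff_C_mul, coeff_X_pow, Finset.mem_range, Nat.lt_succ_iff, hk]
  have hf' : ∀ k, D < k → f.coeff k = 0 := fun k hk => by
    simp [f, coeff_C_mul, coeff_X_pow, Finset.mem_range, not_le.2 hk]
  have hmon : f.Monic := monic_of_natDegree_le_of_coeff_eq_one D
    (natDegree_le_iff_coeff_eq_zero.2 hf') (by rw [hf D le_rfl, hcD])
  have hdeg : f.natDegree = D := natDegree_eq_of_le_of_coeff_ne_zero (natDegree_le_iff_coeff_eq_zero.2 hf')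
    (by rw [hf D le_rfl, hcD]; exact one_ne_zero)
  have hmap : ∀ i, f.map (algebraMap A (Localization.Away (a i))) = F i := fun i => by
    ext k
    rw [coeff_map]
    rcases le_or_gt k D with hk | hk
    · rw [hf k hk, hc]
    · rw [hf' k hk, map_zero, coeff_eq_zero_of_natDegree_lt ((hD i).trans_lt hk)]
  refine ⟨f, hmon, fun q i => ?_, fun i hi => ?_⟩
  · haveI := hfree i
    have h0 : (aeval T f).baseChange (Localization.Away (a i)) = 0 := by
      have h := Polynomial.aeval_algHom_apply (Module.End.baseChangeHom A (Localization.Away (a i)) Q) T f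
      refine h.symm.trans ?_
      rw [← aeval_map_algebraMap (Localization.Away (a i)), hmap]
      exact LinearMap.aeval_self_charpoly _
    have h1 : (1 : Localization.Away (a i)) ⊗ₜ[A] aeval T f q = (1 : Localization.Away (a i)) ⊗ₜ 0 := by
      rw [tmul_zero, ← LinearMap.baseChange_tmul, h0, LinearMap.zero_apply]
    obtain ⟨⟨_, n, rfl⟩, hn⟩ := (IsLocalizedModule.eq_iff_exists (Submonoid.powers (a i))
      (TensorProduct.mk A (Localization.Away (a i)) Q 1)).1 h1
    exact ⟨n, hn.trans (smul_zero _)⟩
  · haveI := hfree i
    rw [← LinearMap.charpoly_natDegree (T.baseChange (Localization.Away (a i)))]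
    show (F i).natDegree = _
    rw [← hmap i, hmon.natDegree_map]

end Groth.Agent.ParaPS27
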