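import Mathlib

/-!
# Freeness of localised quotients of flat algebras
-/

set_option autoImplicit false
set_option linter.style.haveILetI false

universe u

open TensorProduct IsLocalRing

namespace Groth.Agent.ParaPS27

variable {A : Type u} [CommRing A] {B : Type u} [AddCommGroup B] [Module A B]

local notation "Ap" p => Localization.AtPrime (PrimeSpectrum.asIdeal p)

theorem exists_smul_mem_of_mem (p : PrimeSpectrum A) {z : (Ap p) ⊗[A] B}
    (hz : z ∈ (maximalIdeal (Ap p)) • (⊤ : Submodule (Ap p) ((Ap p) ⊗[A] B))) :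
    ∃ t ∉ p.asIdeal, ∃ w ∈ p.asIdeal • (⊤ : Submodule A B), t • z = 1 ⊗ₜ w := by
  induction hz using Submodule.smul_induction_on' with
  | smul r hr n _ =>
    obtain ⟨⟨π, t₁⟩, rfl⟩ := IsLocalization.surj p.asIdeal.primeCompl r |>.elim fun x hx =>
      (⟨x, (IsLocalization.mk'_eq_iff_eq_mul.2 hx.symm)⟩ : ∃ x : A × p.asIdeal.primeCompl,
        IsLocalization.mk' (Ap p) x.1 x.2 = r)
    obtain ⟨⟨b, t₂⟩, hn⟩ :=
      IsLocalizedModule.surj p.asIdeal.primeCompl (TensorProduct.mk A (Ap p) B 1) n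
    have hπ : π ∈ p.asIdeal := (IsLocalization.AtPrime.mk'_mem_maximal_iff (Ap p) p.asIdeal π t₁).1 hr
    refine ⟨t₁.1 * t₂.1, p.asIdeal.primeCompl.mul_mem t₁.2 t₂.2, π • b, Submodule.smul_mem_smul hπ trivial, ?_⟩
    have h1 : t₁.1 • (IsLocalization.mk' (Ap p) π t₁) = algebraMap A (Ap p) π := by
      rw [Algebra.smul_def, mul_comm, IsLocalization.mk'_spec]
    rw [mul_comm, mul_smul, ← smul_assoc t₁.1, h1, algebraMap_smul, smul_comm, TensorProduct.tmul_smul]
    exact congrArg (π • ·) hn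
  | add x _ y _ hx hy =>
    obtain ⟨t, ht, w, hw, hx⟩ := hx
    obtain ⟨t', ht', w', hw', hy⟩ := hy
    refine ⟨t * t', p.asIdeal.primeCompl.mul_mem ht ht', t' • w + t • w',
      add_mem (Submodule.smul_mem _ _ hw) (Submodule.smul_mem _ _ hw'), ?_⟩
    rw [smul_add, TensorProduct.tmul_add, TensorProduct.tmul_smul, TensorProduct.tmul_smul, ← hx, ← hy,
      mul_smul, mul_smul, smul_comm t t' x]

theorem smul_top_mem {p : PrimeSpectrum A} {N : Submodule A B} {z : B} (hz : z ∈ p.asIdeal • N) :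
    ∃ x ∈ (maximalIdeal (Ap p)) • (⊤ : Submodule (Ap p) ((Ap p) ⊗[A] N)),
      (N.subtype.baseChange (Ap p)) x = 1 ⊗ₜ z := by
  induction hz using Submodule.smul_induction_on' with
  | smul π hπ y hy =>
    refine ⟨algebraMap A (Ap p) π • ((1 : Ap p) ⊗ₜ (⟨y, hy⟩ : N)),
      Submodule.smul_mem_smul ?_ trivial, ?_⟩
    · exact (IsLocalization.AtPrime.to_map_mem_maximal_iff (Ap p) p.asIdeal π).2 hπ
    · rw [map_smul, LinearMap.baseChange_tmul, Submodule.subtype_apply, algebraMap_smul, TensorProduct.tmul_smul]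
  | add x _ y _ hx hy =>
    obtain ⟨a, ha, ha'⟩ := hx
    obtain ⟨b, hb, hb'⟩ := hy
    exact ⟨a + b, add_mem ha hb, by rw [map_add, ha', hb', TensorProduct.tmul_add]⟩

/-- A finite quotient of a flat module is free at `p` as soon as the submodule is pure at `p`. -/
theorem free_tensor_of_colon [IsNoetherianRing A] [Module.Flat A B] (N : Submodule A B) [Module.Finite A (B ⧸ N)]
    (p : PrimeSpectrum A)
    (h : ∀ y ∈ N, y ∈ p.asIdeal • (⊤ : Submodule A B) → ∃ t ∉ p.asIdeal, t • y ∈ p.asIdeal • N) :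
    Module.Free (Ap p) ((Ap p) ⊗[A] (B ⧸ N)) := by
  let R := Ap p
  let ι : R ⊗[A] N →ₗ[R] R ⊗[A] B := N.subtype.baseChange R
  let π : R ⊗[A] B →ₗ[R] R ⊗[A] (B ⧸ N) := N.mkQ.baseChange R
  have hex : Function.Exact ι π := lTensor_exact R (LinearMap.exact_subtype_mkQ N) N.mkQ_surjective
  have hπ : Function.Surjective π := LinearMap.lTensor_surjective R N.mkQ_surjective
  have hι : Function.Injective ι := Module.Flat.lTensor_preserves_injective_linearMap _ N.injective_subtype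
  have key : ∀ x, ι x ∈ (maximalIdeal R) • (⊤ : Submodule R (R ⊗[A] B)) →
      x ∈ (maximalIdeal R) • (⊤ : Submodule R (R ⊗[A] N)) := by
    intro x hx
    obtain ⟨⟨y, t₀⟩, hy⟩ := IsLocalizedModule.surj p.asIdeal.primeCompl (TensorProduct.mk A R N 1) x
    obtain ⟨t₁, ht₁, w, hw, hw'⟩ := exists_smul_mem_of_mem p hx
    have hy' : t₁ • t₀.1 • ι x = 1 ⊗ₜ (t₁ • (y : B)) := by
      rw [← LinearMap.map_smul_of_tower ι, show t₀.1 • x = (1 : R) ⊗ₜ y from hy, LinearMap.baseChange_tmul,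
        TensorProduct.tmul_smul]
      rfl
    have he : (1 : R) ⊗ₜ[A] (t₁ • (y : B)) = 1 ⊗ₜ (t₀.1 • w) := by
      rw [← hy', smul_comm, hw', TensorProduct.tmul_smul]
    obtain ⟨t₂, ht₂⟩ :=
      (IsLocalizedModule.eq_iff_exists p.asIdeal.primeCompl (TensorProduct.mk A R B 1)).1 he
    obtain ⟨t₃, ht₃, hmem⟩ := h (t₂.1 • t₁ • (y : B)) (Submodule.smul_mem _ _ (Submodule.smul_mem _ _ y.2)) (by
      rw [show t₂.1 • t₁ • (y : B) = t₂.1 • t₀.1 • w from ht₂]
      exact Submodule.smul_mem _ _ (Submodule.smul_mem _ _ hw))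
    obtain ⟨x', hx', hx''⟩ := smul_top_mem hmem
    have hT : t₃ * t₂.1 * t₁ * t₀.1 ∈ p.asIdeal.primeCompl :=
      mul_mem (mul_mem (mul_mem ht₃ t₂.2) ht₁) t₀.2
    have hx₂ : (t₃ * t₂.1 * t₁ * t₀.1) • x = x' := hι (by
      rw [LinearMap.map_smul_of_tower, hx'', mul_smul, mul_smul, mul_smul, hy', ← TensorProduct.tmul_smul,
        ← TensorProduct.tmul_smul])
    have hu := IsLocalization.map_units R (⟨_, hT⟩ : p.asIdeal.primeCompl)
    rw [← (Submodule.smul_mem_iff_of_isUnit _ hu), algebraMap_smul]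
    exact hx₂ ▸ hx'
  haveI : Module.Finite R (R ⊗[A] (B ⧸ N)) := inferInstance
  haveI : Module.FinitePresentation R (R ⊗[A] (B ⧸ N)) := Module.finitePresentation_of_finite R _
  refine Module.free_of_maximalIdeal_rTensor_injective ?_
  rw [← LinearMap.lTensor_inj_iff_rTensor_inj]
  refine lTensor_injective_of_exact_of_exact_of_rTensor_injective hex hπ
    (LinearMap.exact_subtype_mkQ (maximalIdeal R)) (Submodule.mkQ_surjective _) ?_
    (Module.Flat.lTensor_preserves_injective_linearMap _ Subtype.val_injective)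
  rw [← LinearMap.lTensor_inj_iff_rTensor_inj]
  refine (injective_iff_map_eq_zero _).2 fun z hz => ?_
  obtain ⟨x, rfl⟩ := TensorProduct.mk_surjective R (R ⊗[A] N) (R ⧸ maximalIdeal R) Ideal.Quotient.mk_surjective z
  rw [TensorProduct.mk_apply, LinearMap.lTensor_tmul] at hz
  apply (TensorProduct.quotTensorEquivQuotSMul _ (maximalIdeal R)).injective
  have hz' := congrArg (TensorProduct.quotTensorEquivQuotSMul _ (maximalIdeal R)) hz
  rw [map_zero, TensorProduct.quotTensorEquivQuotSMul_mk_one_tmul, Submodule.Quotient.mk_eq_zero] at hz'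
  rw [TensorProduct.mk_apply, map_zero, TensorProduct.quotTensorEquivQuotSMul_mk_one_tmul,
    Submodule.Quotient.mk_eq_zero]
  exact key x hz'

end Groth.Agent.ParaPS27
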