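import Groth.Agent.Lib.CIPic27.Good

/-!
# Gluing scalars and characteristic polynomials over the punctured spectrum
-/

set_option autoImplicit false
set_option linter.style.haveILetI false

universe u

open TensorProduct IsLocalRing

namespace Groth.Agent.ParaPS27

open Groth.Agent.CIPic27 Groth.Agent.LocCohLib

variable {A : Type u} [CommRing A] {r : ℕ} {a : Fin r → A}

theorem exists_uniform {S : Fin r → Fin r → ℕ → Prop} (hmono : ∀ i j m n, m ≤ n → S i j m → S i j n)
    (h : ∀ i j, ∃ n, S i j n) : ∃ n, ∀ i j, S i j n := by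
  choose n hn using h
  exact ⟨(Finset.univ : Finset (Fin r × Fin r)).sup fun x => n x.1 x.2, fun i j =>
    hmono i j _ _ (Finset.le_sup (f := fun x : Fin r × Fin r => n x.1 x.2) (Finset.mem_univ (i, j))) (hn i j)⟩

theorem isPowerTorsion_of_forall [IsNoetherianRing A] [IsLocalRing A] {X : Type u} [AddCommGroup X] [Module A X]
    (ha : maximalIdeal A ≤ (Ideal.span (Set.range a)).radical)
    (h : ∀ x : X, ∀ i, ∃ n : ℕ, a i ^ n • x = 0) : LocCoh.IsPowerTorsion (maximalIdeal A) X := by
  refine isPowerTorsion_of_local fun x p hp => ?_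
  obtain ⟨i, hi⟩ : ∃ i, a i ∉ p.asIdeal := by
    by_contra! hh
    exact hp (ha.trans (p.isPrime.radical_le_iff.2 (Ideal.span_le.2 (by rintro _ ⟨i, rfl⟩; exact hh i))))
  obtain ⟨n, hn⟩ := h x i
  exact ⟨a i ^ n, fun hh => hi (p.isPrime.mem_of_pow_mem n hh), hn⟩

variable [IsNoetherianRing A] [IsLocalRing A]

theorem eq_zero_of_forall (hA : Good A A) (ha : maximalIdeal A ≤ (Ideal.span (Set.range a)).radical) {c : A}
    (hc : ∀ i, algebraMap A (Localization.Away (a i)) c = 0) : c = 0 := by
  obtain ⟨n, hn⟩ := (isPowerTorsion_of_forall (X := ↥(Submodule.span A {c})) ha fun x i => by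
    obtain ⟨d, hd⟩ := Submodule.mem_span_singleton.1 x.2
    obtain ⟨⟨_, n, rfl⟩, hn⟩ :=
      (IsLocalization.map_eq_zero_iff (Submonoid.powers (a i)) (Localization.Away (a i)) c).1 (hc i)
    refine ⟨n, Subtype.ext ?_⟩
    rw [SetLike.val_smul, ← hd, smul_comm, smul_eq_mul (a i ^ n), hn, smul_zero]
    rfl) ⟨c, Submodule.mem_span_singleton_self c⟩
  exact eq_zero_of_pow_smul hA.powTors_eq (n := n) fun t ht => congrArg Subtype.val (hn t ht)

theorem exists_glue (hA : Good A A) (ha : maximalIdeal A ≤ (Ideal.span (Set.range a)).radical)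
    (c : ∀ i, Localization.Away (a i))
    (hc : ∀ i j, IsLocalization.Away.awayToAwayRight (a i) (a j) (c i) =
      (IsLocalization.Away.awayToAwayLeft (a j) (a i) (c j) : Localization.Away (a i * a j))) :
    ∃ x : A, ∀ i, algebraMap A (Localization.Away (a i)) x = c i := by
  have h1 : ∀ i : Fin r, ∀ _ : Fin r, ∃ n, algebraMap A (Localization.Away (a i)) (a i ^ n) * c i ∈
      Set.range (algebraMap A (Localization.Away (a i))) := fun i _ => by
    obtain ⟨n, g, hg⟩ := IsLocalization.Away.surj (a i) (c i)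
    exact ⟨n, g, by rw [← hg, map_pow, mul_comm]⟩
  obtain ⟨n, hn⟩ := exists_uniform (fun i _ m m' hm ⟨g, hg⟩ => ⟨a i ^ (m' - m) * g, by
    rw [map_mul, hg, ← mul_assoc, ← map_mul, ← pow_add, Nat.sub_add_cancel hm]⟩) h1
  choose g hg using fun i => hn i i
  have h2 : ∀ i j, ∃ k, (a i * a j) ^ k * (a j ^ n * g i - a i ^ n * g j) = 0 := fun i j => by
    have hz : algebraMap A (Localization.Away (a i * a j)) (a j ^ n * g i - a i ^ n * g j) = 0 := by
      rw [map_sub, map_mul, map_mul,
        ← IsLocalization.Away.awayToAwayRight_eq (S := Localization.Away (a i)) (a i) (a j) (g i),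
        ← IsLocalization.Away.awayToAwayLeft_eq (S := Localization.Away (a j)) (a j) (a i) (g j),
        hg, hg, map_mul, map_mul, IsLocalization.Away.awayToAwayRight_eq,
        IsLocalization.Away.awayToAwayLeft_eq, hc, sub_eq_zero]
      ring
    obtain ⟨⟨_, k, rfl⟩, hk⟩ := (IsLocalization.map_eq_zero_iff (Submonoid.powers (a i * a j)) _ _).1 hz
    exact ⟨k, hk⟩
  obtain ⟨k, hk⟩ := exists_uniform (fun i j m m' hm h => by
    rw [← Nat.sub_add_cancel hm, pow_add, mul_assoc, h, mul_zero]) h2
  let b := fun i => a i ^ (n + k)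
  let e := fun i => a i ^ k * g i
  have hbe : ∀ i j, b j * e i = b i * e j := fun i j => by
    refine sub_eq_zero.1 ((Eq.trans ?_ (hk i j)))
    simp only [b, e, mul_pow, pow_add]
    ring
  have hb : maximalIdeal A ≤ (Ideal.span (Set.range b)).radical := by
    refine ha.trans (Ideal.radical_le_radical_iff.2 (Ideal.span_le.2 ?_))
    rintro _ ⟨i, rfl⟩
    exact ⟨n + k, Ideal.subset_span ⟨i, rfl⟩⟩
  let P := Fintype.linearCombination A b
  let j : ↥(LinearMap.range P) →ₗ[A] A := (LinearMap.range P).subtype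
  have hj : IsoOff A j := by
    refine ⟨fun x => ⟨0, fun t _ => ?_⟩, isPowerTorsion_of_forall (a := b) hb fun x i => ⟨1, ?_⟩⟩
    · have hx : x = 0 := Subtype.ext (Submodule.injective_subtype _ (x.2.trans (map_zero j).symm))
      rw [hx, smul_zero]
    · obtain ⟨y, rfl⟩ := Submodule.Quotient.mk_surjective _ x
      rw [← Submodule.Quotient.mk_smul, Submodule.Quotient.mk_eq_zero]
      refine ⟨⟨b i ^ 1 • y, Pi.single i y, ?_⟩, rfl⟩
      rw [Fintype.linearCombination_apply_single, smul_eq_mul, smul_eq_mul, pow_one, mul_comm]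
  have hle : LinearMap.ker P ≤ LinearMap.ker (Fintype.linearCombination A e) := fun v hv => by
    rw [LinearMap.mem_ker] at hv ⊢
    rw [Fintype.linearCombination_apply] at hv ⊢
    refine eq_zero_of_forall hA ha fun i => (IsLocalization.map_eq_zero_iff (Submonoid.powers (a i))
      (Localization.Away (a i)) _).2 ⟨⟨b i, n + k, rfl⟩, ?_⟩
    show b i * _ = 0
    have : ∀ l, b i * (v l • e l) = e i * (v l • b l) := fun l => by
      rw [smul_eq_mul, smul_eq_mul, mul_left_comm, hbe, mul_comm (b l), mul_left_comm]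
    rw [Finset.mul_sum, Finset.sum_congr rfl fun l _ => this l, ← Finset.mul_sum, hv, mul_zero]
  obtain ⟨G, hG⟩ := exists_extend_isoOff hA hj
    ((LinearMap.ker P).liftQ _ hle ∘ₗ P.quotKerEquivRange.symm.toLinearMap)
  refine ⟨G 1, fun i => ?_⟩
  have h : b i * G 1 = e i := by
    have h := LinearMap.congr_fun hG ⟨P (Pi.single i 1), LinearMap.mem_range_self P _⟩
    rw [LinearMap.comp_apply, LinearMap.comp_apply, LinearEquiv.coe_coe,
      show P.quotKerEquivRange.symm ⟨P (Pi.single i 1), LinearMap.mem_range_self P _⟩ =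
        Submodule.Quotient.mk (Pi.single i 1) from P.quotKerEquivRange.symm_apply_eq.2 (Subtype.ext rfl),
      Submodule.liftQ_apply] at h
    replace h := h.trans ((Fintype.linearCombination_apply_single A e i 1).trans (one_smul A _))
    rw [← h, ← smul_eq_mul, ← map_smul, smul_eq_mul, mul_one]
    show G (b i) = G (P (Pi.single i 1))
    rw [Fintype.linearCombination_apply_single, one_smul]
  have hu : IsUnit (algebraMap A (Localization.Away (a i)) (b i)) := by
    simp only [b, map_pow]
    exact (IsLocalization.Away.algebraMap_isUnit (a i)).pow _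
  refine hu.mul_left_cancel ?_
  rw [← map_mul, h]
  simp only [e, b, map_mul, hg, map_pow, pow_add]
  ring

end Groth.Agent.ParaPS27
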