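import Groth.Agent.Lib.ParaPS27.Free
import Groth.Agent.Lib.ParaPS27.Charpoly
import Groth.Agent.Lib.RigidSec19
import Groth.Agent.Lib.CIPic27.Restrict
import Groth.Agent.Lib.SMT.CMBasic

/-!
# Parafactoriality of `A⟦X⟧` for a complete local ring `A` of depth at least two
-/

set_option autoImplicit false
set_option linter.style.haveILetI false

universe u

open TensorProduct IsLocalRing

namespace Groth.Agent.ParaPS27

open Groth.Agent.CIPic27 Groth.Agent.LocCohLib Groth.Agent.ParaGr27

variable {A : Type u} [CommRing A]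

local notation "S" => PowerSeries A

theorem flat_powerSeries [IsNoetherianRing A] : Module.Flat A S := by
  haveI := RigidSec19.flat_pi (R := A) (fun _ : ULift.{u} (Unit →₀ ℕ) => A)
  exact Module.Flat.of_linearEquiv (LinearEquiv.funCongrLeft A A Equiv.ulift : ((Unit →₀ ℕ) → A) ≃ₗ[A] _)

theorem mem_map_C {J : Ideal A} (hJ : J.FG) {f : S} (hf : ∀ d, PowerSeries.coeff d f ∈ J) :
    f ∈ J.map (algebraMap A S) := by
  obtain ⟨n, a, ha⟩ := Submodule.fg_iff_exists_fin_generating_family.mp hJ
  have h : ∀ d, ∃ c : Fin n → A, ∑ i, c i • a i = PowerSeries.coeff d f := fun d => by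
    rw [← Submodule.mem_span_range_iff_exists_fun, ha]; exact hf d
  choose c hc using h
  have e : f = ∑ i, algebraMap A S (a i) * PowerSeries.mk fun d => c d i := by
    ext d
    rw [map_sum, ← hc d]
    refine Finset.sum_congr rfl fun i _ => ?_
    rw [← Algebra.smul_def, map_smul, PowerSeries.coeff_mk, smul_eq_mul, smul_eq_mul, mul_comm]
  rw [e]
  exact Ideal.sum_mem _ fun i _ =>
    Ideal.mul_mem_right _ _ (Ideal.mem_map_of_mem _ (ha ▸ Submodule.subset_span ⟨i, rfl⟩))

variable [IsLocalRing A]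

theorem nzd_mod [IsNoetherianRing A] {p : PrimeSpectrum A} {s : S} (hs : PowerSeries.map (residue A) s ≠ 0) {b : S}
    (hb : s * b ∈ p.asIdeal.map (algebraMap A S)) : b ∈ p.asIdeal.map (algebraMap A S) := by
  let π := PowerSeries.map (Ideal.Quotient.mk p.asIdeal)
  have hker : p.asIdeal.map (algebraMap A S) ≤ RingHom.ker π := Ideal.map_le_iff_le_comap.2 fun x hx => by
    show π (algebraMap A S x) = 0
    rw [PowerSeries.algebraMap_apply, Algebra.algebraMap_self, RingHom.id_apply]
    show PowerSeries.map _ (PowerSeries.C x) = 0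
    rw [PowerSeries.map_C, Ideal.Quotient.eq_zero_iff_mem.2 hx, map_zero]
  have hs' : π s ≠ 0 := fun h => hs (PowerSeries.ext fun d => by
    have h' := congrArg (PowerSeries.coeff d) h
    rw [PowerSeries.coeff_map, map_zero, Ideal.Quotient.eq_zero_iff_mem] at h'
    rw [PowerSeries.coeff_map, map_zero, residue_eq_zero_iff]
    exact le_maximalIdeal p.isPrime.ne_top h')
  have h0 : π s * π b = 0 := by rw [← map_mul]; exact hker hb
  have hb0 := (mul_eq_zero.1 h0).resolve_left hs'
  exact mem_map_C (IsNoetherian.noetherian _) fun d => Ideal.Quotient.eq_zero_iff_mem.1 (by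
    rw [← PowerSeries.coeff_map]
    exact (congrArg (PowerSeries.coeff d) hb0).trans (map_zero _))

theorem C_mem_maximalIdeal {t : A} (ht : t ∈ maximalIdeal A) : algebraMap A S t ∈ maximalIdeal S := by
  rw [mem_maximalIdeal, mem_nonunits_iff, PowerSeries.isUnit_iff_constantCoeff]
  simpa using ht

omit [IsLocalRing A] in
theorem aeval_X_eq (f : Polynomial A) : Polynomial.aeval (PowerSeries.X : S) f = (f : S) := by
  have h : (Polynomial.aeval (PowerSeries.X : S) : Polynomial A →ₐ[A] S) = Polynomial.coeToPowerSeries.algHom A :=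
    Polynomial.algHom_ext (by simp)
  rw [h, Polynomial.coeToPowerSeries.algHom_apply]
  simp

variable [IsNoetherianRing A] [IsAdicComplete (maximalIdeal A) A]

theorem exists_generator (hA : Good A A) (I : Ideal S) {s₀ : S} (hs₀ : s₀ ∈ I)
    (hs₀' : PowerSeries.map (residue A) s₀ ≠ 0)
    (hfree : ∀ q : PrimeSpectrum S, ¬ maximalIdeal S ≤ q.asIdeal →
      ∃ g ∈ I, ∃ r ∉ q.asIdeal, ∀ x ∈ I, ∃ c, r * x = c * g)
    (hsat : ∀ x : S, (∃ N : ℕ, ∀ t ∈ maximalIdeal S ^ N, t * x ∈ I) → x ∈ I) :
    ∃ f : S, I = Ideal.span {f} := by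
  classical
  haveI : Module.Flat A S := flat_powerSeries
  obtain ⟨f₀, h₀, H₀⟩ := PowerSeries.exists_isWeierstrassFactorization hs₀'
  haveI := H₀.isDistinguishedAt.monic.finite_quotient
  haveI : Module.Finite A (S ⧸ Ideal.span {s₀}) := Module.Finite.equiv H₀.algEquivQuotient.toLinearEquiv
  haveI : Module.Finite A (S ⧸ I) := Module.Finite.of_surjective
    (Ideal.Quotient.factorₐ A ((Ideal.span_singleton_le_iff_mem _).2 hs₀)).toLinearMap
    (Ideal.Quotient.factor_surjective ((Ideal.span_singleton_le_iff_mem _).2 hs₀))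
  let N : Submodule A S := I.restrictScalars A
  let eQ : (S ⧸ N) ≃ₗ[A] (S ⧸ I) := Submodule.Quotient.restrictScalarsEquiv A I
  haveI : Module.Finite A (S ⧸ N) := Module.Finite.equiv eQ.symm
  let U : Set A := {a | Module.Free (Localization.Away a) (Localization.Away a ⊗[A] (S ⧸ I))}
  have hU : ∀ p : PrimeSpectrum A, ¬ maximalIdeal A ≤ p.asIdeal → ∃ a ∈ U, a ∉ p.asIdeal := by
    intro p hp
    have hcolon : ∀ y ∈ N, y ∈ p.asIdeal • (⊤ : Submodule A S) → ∃ t ∉ p.asIdeal, t • y ∈ p.asIdeal • N := by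
      intro y hy hyp
      rw [Ideal.smul_top_eq_map, Submodule.restrictScalars_mem] at hyp
      let J := p.asIdeal.map (algebraMap A S)
      by_contra! hh
      let C : Ideal S := Submodule.comap (LinearMap.mulRight S y) (J * I)
      have hdisj : Disjoint (C : Set S) (Algebra.algebraMapSubmonoid S p.asIdeal.primeCompl) := by
        rw [Set.disjoint_left]
        rintro _ hC ⟨t, ht, rfl⟩
        refine hh t ht ?_
        rw [show N = I.restrictScalars A from rfl, ← Ideal.smul_restrictScalars, Submodule.restrictScalars_mem,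
          Algebra.smul_def t y]
        exact hC
      obtain ⟨q, hq, hle, hqd⟩ := Ideal.exists_le_prime_disjoint C _ hdisj
      obtain ⟨t, htm, htp⟩ := SetLike.not_le_iff_exists.1 hp
      obtain ⟨g, hg, r, hr, hgen⟩ := hfree ⟨q, hq⟩ fun hle' =>
        (Set.disjoint_left.1 hqd) (hle' (C_mem_maximalIdeal htm)) ⟨t, htp, rfl⟩
      obtain ⟨b, hb⟩ := hgen y hy
      obtain ⟨c, hc⟩ := hgen s₀ hs₀
      have hrb : r * b ∈ J := nzd_mod hs₀' (by
        rw [show s₀ * (r * b) = c * (b * g) by linear_combination b * hc, ← hb]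
        exact Ideal.mul_mem_left _ _ (Ideal.mul_mem_left _ _ hyp))
      refine hr ((hq.mem_or_mem (hle (?_ : r * r ∈ C))).elim id id)
      show (r * r) * y ∈ J * I
      rw [show r * r * y = (r * b) * g by linear_combination r * hb]
      exact Ideal.mul_mem_mul hrb hg
    haveI := free_tensor_of_colon N p hcolon
    haveI : Module.Free (Localization.AtPrime p.asIdeal) (Localization.AtPrime p.asIdeal ⊗[A] (S ⧸ I)) :=
      Module.Free.of_equiv (LinearEquiv.baseChange A (Localization.AtPrime p.asIdeal) (S ⧸ N) (S ⧸ I) eQ)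
    haveI : Module.FinitePresentation A (S ⧸ I) := Module.finitePresentation_of_finite A _
    obtain ⟨a, ha, hfr, -⟩ := Module.FinitePresentation.exists_free_localizedModule_powers p.asIdeal.primeCompl
      (TensorProduct.mk A (Localization.AtPrime p.asIdeal) (S ⧸ I) 1) (Localization.AtPrime p.asIdeal)
    exact ⟨a, Module.Free.of_equiv (LocalizedModule.equivTensorProduct (Submonoid.powers a) (S ⧸ I)), ha⟩
  obtain ⟨U', hU', hspan⟩ :=
    (Submodule.fg_span_iff_fg_span_finset_subset U).1 (IsNoetherian.noetherian (Ideal.span U))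
  let a : Fin U'.card → A := fun i => (U'.equivFin.symm i : A)
  have hra : Set.range a = ↑U' := by
    ext x
    exact ⟨fun ⟨i, hi⟩ => hi ▸ (U'.equivFin.symm i).2, fun hx => ⟨U'.equivFin ⟨x, hx⟩, by simp [a]⟩⟩
  have ha : maximalIdeal A ≤ (Ideal.span (Set.range a)).radical := by
    rw [hra, show Ideal.span (↑U' : Set A) = Ideal.span U from hspan.symm, Ideal.radical_eq_sInf]
    refine le_sInf fun P ⟨hle, hP⟩ => ?_
    by_contra hh
    obtain ⟨x, hx, hxP⟩ := hU ⟨P, hP⟩ hh
    exact hxP (hle (Ideal.subset_span hx))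
  have hfr : ∀ i, Module.Free (Localization.Away (a i)) (Localization.Away (a i) ⊗[A] (S ⧸ I)) := fun i =>
    hU' (U'.equivFin.symm i).2
  obtain ⟨f, hmon, hann, hrank⟩ :=
    exists_poly hA ha (Algebra.lmul A (S ⧸ I) (Ideal.Quotient.mk I PowerSeries.X)) hfr
  -- `f` lies in `I`
  have hann' : ∀ i, ∃ n : ℕ, algebraMap A S (a i) ^ n * (f : S) ∈ I := fun i => by
    obtain ⟨n, hn⟩ := hann (1 : S ⧸ I) i
    refine ⟨n, ?_⟩
    rw [Polynomial.aeval_algHom_apply, ← Ideal.Quotient.mkₐ_eq_mk A, Polynomial.aeval_algHom_apply,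
      aeval_X_eq] at hn
    have hn' : (a i ^ n) • Ideal.Quotient.mk I (f : S) = 0 := by
      rw [← mul_one (Ideal.Quotient.mk I (f : S))]
      exact hn
    rw [← Ideal.Quotient.eq_zero_iff_mem, map_mul, map_pow, Ideal.Quotient.mk_algebraMap, ← map_pow,
      ← Algebra.smul_def]
    exact hn'
  have hfI : (f : S) ∈ I := by
    let J : Ideal S := Submodule.comap (LinearMap.mulRight S (f : S)) I
    have hm : (maximalIdeal A).map (algebraMap A S) ≤ J.radical := by
      refine Ideal.map_le_iff_le_comap.2 (ha.trans ?_)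
      rw [Ideal.comap_radical]
      refine Ideal.radical_le_radical_iff.2 (Ideal.span_le.2 ?_)
      rintro _ ⟨i, rfl⟩
      obtain ⟨n, hn⟩ := hann' i
      exact ⟨n, show algebraMap A S (a i ^ n) * (f : S) ∈ I by rwa [map_pow]⟩
    have hX : (PowerSeries.X : S) ∈ J.radical := by
      have h1 : ((f₀ : Polynomial A) : S) ∈ J.radical := Ideal.le_radical (Ideal.mul_mem_right _ _ (by
        have := H₀.eq_mul ▸ hs₀
        exact (Ideal.mul_unit_mem_iff_mem _ H₀.isUnit).1 this))
      have h2 : (PowerSeries.X : S) ^ f₀.natDegree - (f₀ : S) ∈ J.radical := hm (mem_map_C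
        (IsNoetherian.noetherian _) fun d => by
          rw [map_sub, PowerSeries.coeff_X_pow, Polynomial.coeff_coe]
          rcases lt_trichotomy d f₀.natDegree with h | rfl | h
          · rw [if_neg h.ne, zero_sub, neg_mem_iff]
            exact H₀.isDistinguishedAt.mem h
          · rw [if_pos rfl, Polynomial.coeff_natDegree, H₀.isDistinguishedAt.monic.leadingCoeff, sub_self]
            exact zero_mem _
          · rw [if_neg h.ne', Polynomial.coeff_eq_zero_of_natDegree_lt h, sub_zero]
            exact zero_mem _)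
      refine Ideal.radical_idem J ▸ ⟨f₀.natDegree, ?_⟩
      simpa using add_mem h2 h1
    have hmax : maximalIdeal S ≤ J.radical := fun x hx => by
      rw [PowerSeries.eq_X_mul_shift_add_const x]
      refine add_mem (Ideal.mul_mem_right _ _ hX) (hm (Ideal.mem_map_of_mem _ ?_))
      rwa [mem_maximalIdeal, mem_nonunits_iff, PowerSeries.isUnit_iff_constantCoeff] at hx
    obtain ⟨M, hM⟩ := Ideal.exists_pow_le_of_le_radical_of_fg hmax (IsNoetherian.noetherian _)
    exact hsat _ ⟨M, fun t ht => hM ht⟩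
  -- the distinguished polynomial of `f` generates `I`
  have hcoef : PowerSeries.coeff f.natDegree (PowerSeries.map (residue A) (f : S)) ≠ 0 := by
    rw [PowerSeries.coeff_map, Polynomial.coeff_coe, Polynomial.coeff_natDegree, hmon.leadingCoeff, map_one]
    exact one_ne_zero
  obtain ⟨f', h', H'⟩ := PowerSeries.exists_isWeierstrassFactorization (g := (f : S))
    fun h => hcoef (by rw [h, map_zero])
  have hle : f'.natDegree ≤ f.natDegree := by
    rw [H'.natDegree_eq_toNat_order_map]
    exact ENat.toNat_le_of_le_natCast (PowerSeries.order_le _ hcoef)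
  refine ⟨(f : S), le_antisymm ?_ ((Ideal.span_singleton_le_iff_mem _).2 hfI)⟩
  haveI := H'.isDistinguishedAt.monic.free_quotient
  haveI := H'.isDistinguishedAt.monic.finite_quotient
  let L := S ⧸ Ideal.span {(f : S)}
  let eL := H'.algEquivQuotient.toLinearEquiv
  haveI : Module.Free A L := Module.Free.of_equiv eL
  haveI : Module.Finite A L := Module.Finite.equiv eL
  have hrkL : Module.finrank A L = f'.natDegree :=
    eL.finrank_eq.symm.trans (finrank_quotient_span_eq_natDegree' H'.isDistinguishedAt.monic)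
  let φ : L →ₗ[A] (S ⧸ I) := (Ideal.Quotient.factorₐ A ((Ideal.span_singleton_le_iff_mem _).2 hfI)).toLinearMap
  have hφ : Function.Surjective φ :=
    Ideal.Quotient.factor_surjective ((Ideal.span_singleton_le_iff_mem _).2 hfI)
  intro x hx
  have hx0 : φ (Ideal.Quotient.mk _ x) = 0 := Ideal.Quotient.eq_zero_iff_mem.2 hx
  have hloc : ∀ i, (1 : Localization.Away (a i)) ⊗ₜ[A] (Ideal.Quotient.mk (Ideal.span {(f : S)}) x : L) = 0 := by
    intro i
    by_cases hi : Nontrivial (Localization.Away (a i))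
    · haveI := hfr i
      refine (OrzechProperty.bijective_of_surjective_of_finrank_le (φ.baseChange (Localization.Away (a i)))
        (LinearMap.lTensor_surjective _ hφ) ?_).1 (by rw [LinearMap.baseChange_tmul, hx0, tmul_zero, map_zero])
      rw [Module.finrank_baseChange, hrkL, hrank i hi]
      exact hle
    · haveI := not_nontrivial_iff_subsingleton.1 hi
      haveI : Subsingleton (Localization.Away (a i) ⊗[A] L) := Module.subsingleton (Localization.Away (a i)) _
      exact Subsingleton.elim _ _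
  rw [← Ideal.Quotient.eq_zero_iff_mem]
  let b := Module.Free.chooseBasis A L
  refine b.repr.map_eq_zero_iff.1 (Finsupp.ext fun k => eq_zero_of_forall hA ha fun i => ?_)
  have h := congrArg ((TensorProduct.rid A (Localization.Away (a i))) ∘
    LinearMap.lTensor (Localization.Away (a i)) (b.coord k)) (hloc i)
  simpa [Algebra.smul_def] using h

/-- The punctured Picard group of `A⟦X⟧` is trivial. -/
theorem ptm_powerSeries (hA : (2 : ℕ∞) ≤ LocCoh.depth A A) (hS : (2 : ℕ∞) ≤ LocCoh.depth S S) : PTm S := by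
  have hgA : Good A A := by
    have h := (van_iff_natCast_le_depth (A := A) (X := A) 2).2 hA
    exact ⟨h 0 (by omega), h 1 (by omega)⟩
  have hgS : Good S S := by
    have h := (van_iff_natCast_le_depth (A := S) (X := S) 2).2 hS
    exact ⟨h 0 (by omega), h 1 (by omega)⟩
  intro M _ _ _ hM
  let P := RingHom.ker (PowerSeries.map (residue A))
  haveI hP : P.IsPrime := RingHom.ker_isPrime _
  have hX : (PowerSeries.X : S) ∉ P := fun h =>
    one_ne_zero (α := ResidueField A) (by simpa using congrArg (PowerSeries.coeff 1) (RingHom.mem_ker.1 h))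
  have hXm : (PowerSeries.X : S) ∈ maximalIdeal S := by
    rw [mem_maximalIdeal, mem_nonunits_iff, PowerSeries.isUnit_iff_constantCoeff]
    simp
  obtain ⟨u, s, hs, h1, h2⟩ := hM ⟨P, hP⟩ fun h => hX (h hXm)
  obtain ⟨ψ, hψu, -⟩ := exists_func u s h1 h2
  have hs' : PowerSeries.map (residue A) s ≠ 0 := fun h => hs (RingHom.mem_ker.2 h)
  have hs2 : PowerSeries.map (residue A) (s * s) ≠ 0 := by
    rw [map_mul]; exact mul_ne_zero hs' hs'
  have hsreg : ∀ {b : S}, s * b = 0 → b = 0 := fun {b} hb => by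
    refine ((PowerSeries.IsWeierstrassDivisor.of_map_ne_zero hs').eq_zero_of_mul_eq (r := 0) (q := b) ?_ ?_).1
    · rw [Polynomial.degree_zero]; exact WithBot.bot_lt_coe _
    · rw [hb, Polynomial.coe_zero]
  let ev : D S M →ₗ[S] S := Module.Dual.eval S M u
  have hev : ∀ φ, ev φ = φ u := fun _ => rfl
  have hinj : Function.Injective ev := (injective_iff_map_eq_zero _).2 fun φ hφ => LinearMap.ext fun x => by
    obtain ⟨c, hc⟩ := h1 x
    refine hsreg ?_
    rw [← smul_eq_mul, ← map_smul, hc, map_smul, ← hev, hφ, smul_zero]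
  let I : Ideal S := LinearMap.range ev
  have hfree : ∀ q : PrimeSpectrum S, ¬ maximalIdeal S ≤ q.asIdeal →
      ∃ g ∈ I, ∃ r ∉ q.asIdeal, ∀ x ∈ I, ∃ c, r * x = c * g := by
    intro q hq
    obtain ⟨g, r, hr, hg, -⟩ := freeOff_dual hM q hq
    refine ⟨ev g, LinearMap.mem_range_self _ g, r, hr, ?_⟩
    rintro _ ⟨φ, rfl⟩
    obtain ⟨c, hc⟩ := hg φ
    exact ⟨c, by rw [← smul_eq_mul, ← map_smul, hc, map_smul, smul_eq_mul]⟩
  have hsat : ∀ x : S, (∃ N : ℕ, ∀ t ∈ maximalIdeal S ^ N, t * x ∈ I) → x ∈ I := by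
    rintro x ⟨N, hN⟩
    let e := LinearEquiv.ofInjective ev hinj
    let F : ↥(maximalIdeal S ^ N) →ₗ[S] D S M := e.symm.toLinearMap ∘ₗ LinearMap.codRestrict _
      (LinearMap.toSpanSingleton S S x ∘ₗ (maximalIdeal S ^ N).subtype) fun t => hN t t.2
    obtain ⟨φ, hφ⟩ := exists_eq_smul (good_dual hS) N F
    refine ⟨φ, sub_eq_zero.1 (eq_zero_of_pow_smul hgS.powTors_eq (n := N) fun t ht => ?_)⟩
    rw [smul_sub, ← map_smul, hφ ⟨t, ht⟩, sub_eq_zero]
    exact congrArg Subtype.val (e.apply_symm_apply _)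
  obtain ⟨f, hf⟩ := exists_generator hgA I (s₀ := s * s) ⟨ψ, hψu⟩ hs2 hfree hsat
  have hmemI : ∀ {x : S}, x ∈ I ↔ x ∈ Ideal.span {f} := fun {x} => by rw [hf]
  obtain ⟨c, hc⟩ := Ideal.mem_span_singleton'.1 (hmemI.1 (⟨ψ, hψu⟩ : s * s ∈ I))
  obtain ⟨φ, hφ⟩ : f ∈ I := hmemI.2 (Ideal.mem_span_singleton_self f)
  have hreg : ∀ b : S, b * f = 0 → b = 0 := fun b hb => hsreg (hsreg (by
    rw [← mul_assoc, ← hc, mul_assoc, mul_comm f b, hb, mul_zero]))
  refine ⟨(LinearEquiv.ofBijective (LinearMap.toSpanSingleton S (D S M) φ) ⟨?_, fun χ => ?_⟩).symm⟩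
  · refine (injective_iff_map_eq_zero _).2 fun b hb => hreg b ?_
    rw [← hφ, ← smul_eq_mul, ← map_smul]
    exact (congrArg ev hb).trans (map_zero _)
  · obtain ⟨b, hb⟩ := Ideal.mem_span_singleton'.1 (hmemI.1 (LinearMap.mem_range_self ev χ))
    refine ⟨b, hinj ?_⟩
    show ev (b • φ) = ev χ
    rw [map_smul, hφ, smul_eq_mul, hb]

/-- Parafactoriality of `A⟦X⟧`. -/
theorem isParafactorial_powerSeries (hA : (2 : ℕ∞) ≤ LocCoh.depth A A) :
    ParaF.IsParafactorialLocalRing S := by
  have hXm : (PowerSeries.X : S) ∈ maximalIdeal S := by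
    rw [mem_maximalIdeal, mem_nonunits_iff, PowerSeries.isUnit_iff_constantCoeff]
    simp
  have hreg : IsSMulRegular S (PowerSeries.X : S) := fun x y h => PowerSeries.X_mul_inj.1 h
  let q : S →+* A := PowerSeries.constantCoeff
  have hq : Function.Surjective q := fun x => ⟨PowerSeries.C x, by simp [q]⟩
  have hker : RingHom.ker q = Ideal.span {(PowerSeries.X : S)} := by
    ext x
    rw [RingHom.mem_ker, Ideal.mem_span_singleton, PowerSeries.X_dvd_iff]
  let e : (S ⧸ Ideal.span {(PowerSeries.X : S)}) ≃+* A :=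
    (Ideal.quotEquivOfEq hker.symm).trans (RingHom.quotientKerEquivOfSurjective hq)
  haveI : IsLocalRing (S ⧸ Ideal.span {(PowerSeries.X : S)}) := e.symm.isLocalRing
  have hS : (2 : ℕ∞) ≤ LocCoh.depth S S := by
    refine le_trans ?_ (natCast_add_one_le_depth hXm hreg (k := 2) ?_)
    · norm_num
    · exact le_of_le_of_eq hA (SMT.depth_eq_of_ringEquiv e)
  exact isParafactorial_of_depth hS (picTrivial_of_ptm (ptm_powerSeries hA hS))

end Groth.Agent.ParaPS27
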